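import Cfsg.Agent.Lib.ReeOrder.Torus.Coeff

/-!
The exceptional characters of the odd torus determine the order equation.
-/

set_option autoImplicit false
set_option linter.unusedSectionVars false

namespace CfsgLib.ReeOrder.Conf

open Cfsg CfsgLib.ReeType CfsgLib.Characters
open scoped Classical

universe u

variable {G : Type u} [Group G] [Fintype G]
variable {F : Type} [Field F] [Fintype F] [DecidableEq F]
variable {t : G} {K : Conf t F} {x w : G}

local notation "b" => oddTorus (Conf.q K)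

namespace FirstRow

variable (R : K.FirstRow)
include R

theorem a_ne_principal (k : Fin 3) : R.a k ≠ principalIrr G := fun e =>
  R.a_ne k (by rw [e]; rfl)

theorem s_mul_self (k : Fin 3) : R.s k * R.s k = 1 := by
  rcases R.s_sign k with h | h <;> rw [h] <;> norm_num

theorem s_ne_zero (k : Fin 3) : R.s k ≠ 0 := by
  rcases R.s_sign k with h | h <;> rw [h] <;> norm_num

theorem deg_eq (k : Fin 3) : (charDegree (R.a k : G → ℂ) : ℤ) = R.s k * R.u k := by
  rw [R.u_def, ← mul_assoc, R.s_mul_self, one_mul]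

theorem coef_cases (B : K.BFrame x w) {z : ℂˣ} (hz : z ^ b = 1) (h1 : z ≠ 1) (k : Fin 3) :
    (B.coef 1 z (R.a k) = R.s k ∧ B.coef (-1) z (R.a k) = 0) ∨
      (B.coef 1 z (R.a k) = 0 ∧ B.coef (-1) z (R.a k) = -R.s k) := by
  have h := B.coef_diff hz h1 (χ := R.a k) (s := R.s k) (R.val_tx k)
  rcases (norm_three _ (B.coef_norm (e := 1) (one_pow 2) hz h1)).1 (R.a k) with h2 | h2 | h2 <;>
    rcases (norm_three _ (B.coef_norm (e := -1) neg_one_sq hz h1)).1 (R.a k) with h3 | h3 | h3 <;>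
    rcases R.s_sign k with h4 | h4 <;> omega

theorem third (i j : Fin 3) (h : i ≠ j) :
    ∃ k, k ≠ i ∧ k ≠ j ∧ R.u i + R.u j + R.u k = -1 := by
  have := R.num.deg_sum
  fin_cases i <;> fin_cases j <;> simp at h ⊢ <;>
    first
    | exact ⟨0, by decide, by decide, by omega⟩
    | exact ⟨1, by decide, by decide, by omega⟩
    | exact ⟨2, by decide, by decide, by omega⟩

/-- The shape of the function with trivial sign. -/
theorem shape (B : K.BFrame x w) {z : ℂˣ} (hz : z ^ b = 1) (h1 : z ≠ 1) :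
    ∃ (i : Fin 3) (X : IrrCharacter G), X ≠ principalIrr G ∧ (∀ k, X ≠ R.a k) ∧
      B.coef 1 z (R.a i) = R.s i ∧ B.coef 1 z X ≠ 0 ∧
      ∀ χ, χ ≠ principalIrr G → χ ≠ R.a i → χ ≠ X → B.coef 1 z χ = 0 := by
  have hp := B.coef_norm (e := 1) (one_pow 2) hz h1
  have hm := B.coef_norm (e := -1) neg_one_sq hz h1
  have hP := B.coef_plus_principal hz h1
  have hP0 : B.coef 1 z (principalIrr G) ≠ 0 := by rw [hP]; exact one_ne_zero
  have hne : ∀ {k l : Fin 3}, k ≠ l → R.a k ≠ R.a l := fun h e => h (R.a_inj e)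
  obtain ⟨i, hi⟩ : ∃ i, B.coef 1 z (R.a i) = R.s i := by
    by_contra hno
    push Not at hno
    have hv : ∀ k, B.coef (-1) z (R.a k) = -R.s k := fun k =>
      ((R.coef_cases B hz h1 k).resolve_left fun h => hno k h.1).2
    have hv0 : ∀ k, B.coef (-1) z (R.a k) ≠ 0 := fun k => by
      rw [hv]; exact neg_ne_zero.2 (R.s_ne_zero k)
    have hd := B.coef_deg (e := -1) neg_one_sq hz
    rw [sum_three _ (hne (show (0 : Fin 3) ≠ 1 by decide)) (hne (show (0 : Fin 3) ≠ 2 by decide))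
      (hne (show (1 : Fin 3) ≠ 2 by decide)) (fun χ n0 n1 n2 => by
        by_cases hc : B.coef (-1) z χ = 0
        · rw [hc, zero_mul]
        · rcases support_three _ hm (hne (show (0 : Fin 3) ≠ 1 by decide))
            (hne (show (0 : Fin 3) ≠ 2 by decide)) (hne (show (1 : Fin 3) ≠ 2 by decide))
            (hv0 0) (hv0 1) (hv0 2) hc with e | e | e <;> contradiction)] at hd
    simp only [hv, neg_mul] at hd
    simp only [← R.u_def] at hd
    have := R.num.deg_sum
    omega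
  have hi0 : B.coef 1 z (R.a i) ≠ 0 := by rw [hi]; exact R.s_ne_zero i
  have hPi : principalIrr G ≠ R.a i := (R.a_ne_principal i).symm
  obtain ⟨X, hX1, hX2, hX⟩ := exists_third _ hp hPi
  have hsupp : ∀ χ, χ ≠ principalIrr G → χ ≠ R.a i → χ ≠ X → B.coef 1 z χ = 0 := by
    intro χ n0 n1 n2
    by_contra hc
    rcases support_three _ hp hPi hX1.symm hX2.symm hP0 hi0 hX hc with e | e | e <;> contradiction
  refine ⟨i, X, hX1, fun j e => ?_, hi, hX, hsupp⟩
  subst e
  have hij : i ≠ j := fun e => hX2 (by rw [e])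
  have hj : B.coef 1 z (R.a j) = R.s j :=
    ((R.coef_cases B hz h1 j).resolve_right fun h => hX h.1).1
  have hd := B.coef_deg (e := 1) (one_pow 2) hz
  rw [sum_three _ hPi hX1.symm hX2.symm (fun χ n0 n1 n2 => by rw [hsupp χ n0 n1 n2, zero_mul]),
    hP, hi, hj, ← R.u_def, ← R.u_def] at hd
  have hd1 : charDegree (principalIrr G : G → ℂ) = 1 := by
    simp [charDegree, principalIrr]
  rw [hd1, Nat.cast_one] at hd
  obtain ⟨k, -, -, hk⟩ := R.third i j hij
  have h2 := R.num.u_big k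
  rw [show R.u k = 0 by omega] at h2
  norm_num at h2

/-- The same index for all the functions. -/
theorem coef_other (B : K.BFrame x w) {z z' : ℂˣ} (hz : z ^ b = 1) (h1 : z ≠ 1) (hz' : z' ^ b = 1)
    (h1' : z' ≠ 1) {i j : Fin 3} (hij : j ≠ i) (hi : B.coef 1 z (R.a i) = R.s i) :
    B.coef 1 z' (R.a j) = 0 := by
  by_contra hj0
  obtain ⟨i₀, X, hX1, hXa, hi₀, hX, hsupp⟩ := R.shape B hz h1
  have hii : i₀ = i := by
    by_contra hne
    have h := hsupp (R.a i) (R.a_ne_principal i) (fun e => hne (R.a_inj e).symm) (hXa i).symm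
    rw [hi] at h
    exact R.s_ne_zero i h
  subst hii
  obtain ⟨j₀, X', hX1', hXa', hj₀, hX', hsupp'⟩ := R.shape B hz' h1'
  have hjj : j₀ = j := by
    by_contra hne
    exact hj0 (hsupp' (R.a j) (R.a_ne_principal j) (fun e => hne (R.a_inj e).symm) (hXa' j).symm)
  subst hjj
  have hne : R.a i₀ ≠ R.a j₀ := fun e => hij (R.a_inj e).symm
  have hPi : principalIrr G ≠ R.a i₀ := (R.a_ne_principal i₀).symm
  have hi' : B.coef 1 z' (R.a i₀) = 0 :=
    hsupp' _ (R.a_ne_principal i₀) hne (hXa' i₀).symm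
  -- the third constituents coincide
  have h := B.coef_plus hz h1 hz' h1'
  rw [sum_three _ hPi hX1.symm (hXa i₀).symm
    (fun χ n0 n1 n2 => by rw [hsupp χ n0 n1 n2, zero_mul]), B.coef_plus_principal hz h1,
    B.coef_plus_principal hz' h1', hi', mul_zero, add_zero] at h
  have hXX : B.coef 1 z' X ≠ 0 := fun e => by rw [e, mul_zero] at h; omega
  have hXe : X = X' := by
    by_contra hne'
    exact hXX (hsupp' X hX1 (hXa j₀) hne')
  subst hXe
  -- it does not occur in the other function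
  have h2 := B.coef_orth hz' h1' hz' h1'
  rw [sum_three _ (R.a_ne_principal j₀).symm hX1.symm (hXa j₀).symm
    (fun χ n0 n1 n2 => by rw [hsupp' χ n0 n1 n2, zero_mul]), B.coef_minus_principal hz' h1',
    mul_zero, zero_add] at h2
  have hjm : B.coef (-1) z' (R.a j₀) = 0 :=
    ((R.coef_cases B hz' h1' j₀).resolve_right fun h => hj0 h.1).2
  rw [hjm, mul_zero, zero_add, mul_eq_zero, or_iff_right hXX] at h2
  have him : B.coef (-1) z' (R.a i₀) = -R.s i₀ :=
    ((R.coef_cases B hz' h1' i₀).resolve_left fun h => R.s_ne_zero i₀ (h.1.symm.trans hi')).2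
  have h3 := B.coef_orth hz h1 hz' h1'
  rw [sum_three _ hPi hX1.symm (hXa i₀).symm
    (fun χ n0 n1 n2 => by rw [hsupp χ n0 n1 n2, zero_mul]), B.coef_minus_principal hz' h1',
    h2, hi, him, mul_neg, R.s_mul_self] at h3
  norm_num at h3

/-- The equation for the index. -/
theorem equation_num (B : K.BFrame x w) {z : ℂˣ} (hz : z ^ b = 1) (h1 : z ≠ 1) {i : Fin 3}
    (hi : B.coef 1 z (R.a i) = R.s i) :
    1 + (R.v i : ℚ) ^ 2 / R.u i - (1 + (R.v i : ℚ)) ^ 2 / (1 + (R.u i : ℚ)) = ratio K.q K.I := by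
  obtain ⟨i₀, X, hX1, hXa, hi₀, hX, hsupp⟩ := R.shape B hz h1
  have hii : i₀ = i := by
    by_contra hne
    have h := hsupp (R.a i) (R.a_ne_principal i) (fun e => hne (R.a_inj e).symm) (hXa i).symm
    rw [hi] at h
    exact R.s_ne_zero i h
  subst hii
  have hP := B.coef_plus_principal hz h1
  have hPi : principalIrr G ≠ R.a i₀ := (R.a_ne_principal i₀).symm
  set c := B.coef 1 z X
  set s : ℂ := (R.s i₀ : ℂ) with hs
  set U : ℂ := (R.u i₀ : ℂ) with hU
  set V : ℂ := (R.v i₀ : ℂ) with hV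
  have hss : s * s = 1 := by rw [hs]; exact_mod_cast R.s_mul_self i₀
  have hdeg : (R.a i₀ : G → ℂ) 1 = s * U := by
    rw [← CfsgLib.Chars17.cast_irrDegree, hs, hU]
    exact_mod_cast R.deg_eq i₀
  have hat : (R.a i₀ : G → ℂ) t = s * V := by rw [R.v_def, hs, hV]; push_cast; ring
  have e1 := B.expand 1 z 1
  rw [B.psi_eq_zero (one_pow 2) hz (mul_one 1), sum_three _ hPi hX1.symm (hXa i₀).symm
    (fun χ n0 n1 n2 => by rw [hsupp χ n0 n1 n2, Int.cast_zero, zero_mul]), hP, hi₀,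
    principalIrr_apply, hdeg, ← hs] at e1
  have et := B.coef_t (e := 1) (one_pow 2) hz
  rw [sum_three _ hPi hX1.symm (hXa i₀).symm
    (fun χ n0 n1 n2 => by rw [hsupp χ n0 n1 n2, Int.cast_zero, zero_mul]), hP, hi₀,
    principalIrr_apply, hat, ← hs] at et
  have eq := B.equation (e := 1) (one_pow 2) hz h1
  simp only [B.coef_spec] at eq
  rw [sum_three _ hPi hX1.symm (hXa i₀).symm
    (fun χ n0 n1 n2 => by rw [hsupp χ n0 n1 n2, Int.cast_zero, zero_mul]), hP, hi₀,
    principalIrr_apply, principalIrr_apply, hdeg, hat, ← hs, B.card_G] at eq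
  simp only [Int.cast_one, Units.val_one, mul_one, one_pow, div_one] at e1 et eq
  have hc1 : (c : ℂ) * (X : G → ℂ) 1 = -(1 + U) := by linear_combination -e1 - U * hss
  have hct : (c : ℂ) * (X : G → ℂ) t = -(1 + V) := by linear_combination et - V * hss
  have hc0 : (c : ℂ) ≠ 0 := Int.cast_ne_zero.2 hX
  have hXone : (X : G → ℂ) 1 ≠ 0 := irr_one_ne_zero X
  have hU1 : (1 : ℂ) + U ≠ 0 := fun e => by
    rw [e, neg_zero] at hc1
    exact mul_ne_zero hc0 hXone hc1
  have hU0 : U ≠ 0 := fun e => irr_one_ne_zero (R.a i₀) (by rw [hdeg, e, mul_zero])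
  have hXterm : (c : ℂ) * ((X : G → ℂ) t ^ 2 / (X : G → ℂ) 1) = -((1 + V) ^ 2 / (1 + U)) := by
    have : (c : ℂ) * ((X : G → ℂ) t ^ 2 / (X : G → ℂ) 1) =
        ((c : ℂ) * (X : G → ℂ) t) ^ 2 / ((c : ℂ) * (X : G → ℂ) 1) := by field_simp
    rw [this, hc1, hct]
    field_simp
  have hs0 : s ≠ 0 := fun e => by rw [e, mul_zero] at hss; exact one_ne_zero hss.symm
  have hAterm : s * ((s * V) ^ 2 / (s * U)) = V ^ 2 / U := by
    field_simp
    linear_combination V ^ 2 * hss
  rw [hXterm, hAterm] at eq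
  have hI : (K.I : ℂ) ≠ 0 := Nat.cast_ne_zero.2 Subgroup.index_ne_zero_of_finite
  have key : 1 + V ^ 2 / U - (1 + V) ^ 2 / (1 + U) =
      16 * (K.q : ℂ) * (coTorus K.q : ℂ) * (oddTorus K.q : ℂ) ^ 2 / (K.I : ℂ) := by
    rw [eq_div_iff hI]
    refine mul_left_cancel₀ hI ?_
    linear_combination eq
  have hratio : ratio K.q K.I =
      16 * (K.q : ℚ) * (coTorus K.q : ℚ) * (oddTorus K.q : ℚ) ^ 2 / (K.I : ℚ) := by
    have hh : ((sq K.q - 1).natAbs = 2 * oddTorus K.q) ∧
        ((K.q : ℚ) ^ 2 - 1 = 8 * (coTorus K.q : ℚ) * (oddTorus K.q : ℚ)) := by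
      rcases sq_cases K.q_mod (q := K.q) with ⟨-, e, h2, h3⟩ | ⟨-, e, h2, h3⟩
      · refine ⟨by rw [e]; omega, ?_⟩
        have h2' : (2 : ℚ) * oddTorus K.q + 1 = K.q := by exact_mod_cast h2
        have h3' : (4 : ℚ) * coTorus K.q = K.q + 1 := by exact_mod_cast h3
        linear_combination (-((K.q : ℚ) + 1)) * h2' - 2 * (oddTorus K.q : ℚ) * h3'
      · refine ⟨by rw [e]; omega, ?_⟩
        have h2' : (2 : ℚ) * oddTorus K.q = K.q + 1 := by exact_mod_cast h2
        have h3' : (4 : ℚ) * coTorus K.q + 1 = K.q := by exact_mod_cast h3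
        linear_combination (-((K.q : ℚ) - 1)) * h2' - 2 * (oddTorus K.q : ℚ) * h3'
    rw [ratio, hh.1, hh.2]
    push_cast
    ring
  rw [hratio]
  rw [hU, hV] at key
  have hcast : ((1 + (R.v i₀ : ℚ) ^ 2 / R.u i₀ - (1 + (R.v i₀ : ℚ)) ^ 2 / (1 + (R.u i₀ : ℚ)) : ℚ) : ℂ) =
      ((16 * (K.q : ℚ) * (coTorus K.q : ℚ) * (oddTorus K.q : ℚ) ^ 2 / (K.I : ℚ) : ℚ) : ℂ) := by
    push_cast
    exact key
  exact_mod_cast hcast

end FirstRow

variable (K)

/-- The exceptional characters of the odd torus. -/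
theorem torusData (hT : K.TorusCentralizers) : K.TorusData := by
  intro R
  obtain ⟨x, w, B⟩ := K.exists_bFrame hT
  have hb := K.five_le_b
  have hbne : oddTorus K.q ≠ 0 := by omega
  obtain ⟨ω, hω⟩ : ∃ ω : ℂˣ, IsPrimitiveRoot ω (oddTorus K.q) :=
    ⟨_, (Complex.isPrimitiveRoot_exp _ hbne).isUnit_unit hbne⟩
  have hz := hω.pow_eq_one
  have h1 : ω ≠ 1 := hω.ne_one (by omega)
  obtain ⟨i, X, -, -, hi, -, -⟩ := R.shape B hz h1
  refine ⟨i, R.equation_num B hz h1 hi, fun j hj => ?_⟩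
  have h := B.dvd_degree (χ := R.a j) (s := R.s j) (R.val_tx j)
    (fun z hz' h1' => R.coef_other B hz h1 hz' h1' hj hi)
  have e : R.u j + 1 = R.s j * ((charDegree (R.a j : G → ℂ) : ℤ) + R.s j) := by
    rw [mul_add, R.s_mul_self, ← R.u_def]
  rw [e]
  exact h.mul_left _

end CfsgLib.ReeOrder.Conf
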