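import Cfsg.Agent.Lib.ReeOrder.Torus.Count
import Cfsg.Agent.Lib.Chars17.IrrBasic

/-!
Coefficients of the exceptional functions of the odd torus on the irreducible characters.
-/

set_option autoImplicit false
set_option linter.unusedSectionVars false

namespace CfsgLib.ReeOrder

open Cfsg
open scoped Classical

/-- A vector of norm three has three unit entries. -/
theorem norm_three {α : Type*} [Fintype α] (c : α → ℤ) (h : ∑ a, c a ^ 2 = 3) :
    (∀ a, c a = 0 ∨ c a = 1 ∨ c a = -1) ∧ (Finset.univ.filter fun a => c a ≠ 0).card = 3 := by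
  have hle : ∀ a, c a = 0 ∨ c a = 1 ∨ c a = -1 := fun a => by
    have h1 : c a ^ 2 ≤ 3 := h ▸ Finset.single_le_sum (f := fun a => c a ^ 2)
      (fun i _ => sq_nonneg _) (Finset.mem_univ a)
    have h2 : -1 ≤ c a := by nlinarith
    have h3 : c a ≤ 1 := by nlinarith
    omega
  refine ⟨hle, ?_⟩
  have e : ∀ a, c a ^ 2 = if c a ≠ 0 then 1 else 0 := fun a => by
    rcases hle a with h | h | h <;> simp [h]
  simp only [e, Finset.sum_boole] at h
  exact_mod_cast h

theorem support_three {α : Type*} [Fintype α] (c : α → ℤ) (h : ∑ a, c a ^ 2 = 3) {p q r : α}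
    (hpq : p ≠ q) (hpr : p ≠ r) (hqr : q ≠ r) (hp : c p ≠ 0) (hq : c q ≠ 0) (hr : c r ≠ 0)
    {a : α} (ha : c a ≠ 0) : a = p ∨ a = q ∨ a = r := by
  have hsub : ({p, q, r} : Finset α) ⊆ Finset.univ.filter fun a => c a ≠ 0 := by
    intro x hx
    simp only [Finset.mem_insert, Finset.mem_singleton] at hx
    rcases hx with rfl | rfl | rfl <;> simpa
  have hcard : ({p, q, r} : Finset α).card = 3 := by simp [hpq, hpr, hqr]
  have := Finset.eq_of_subset_of_card_le hsub (by rw [(norm_three c h).2, hcard])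
  have hm : a ∈ ({p, q, r} : Finset α) := this ▸ by simpa using ha
  simpa using hm

theorem exists_third {α : Type*} [Fintype α] (c : α → ℤ) (h : ∑ a, c a ^ 2 = 3) {p q : α}
    (hpq : p ≠ q) : ∃ r, r ≠ p ∧ r ≠ q ∧ c r ≠ 0 := by
  obtain ⟨r, hr, hn⟩ := Finset.exists_mem_notMem_of_card_lt_card
    (s := ({p, q} : Finset α)) (t := Finset.univ.filter fun a => c a ≠ 0)
    (by rw [(norm_three c h).2, Finset.card_pair hpq]; omega)
  simp only [Finset.mem_insert, Finset.mem_singleton, not_or] at hn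
  exact ⟨r, hn.1, hn.2, (Finset.mem_filter.1 hr).2⟩

theorem sum_three {α M : Type*} [Fintype α] [AddCommMonoid M] (f : α → M) {p q r : α}
    (hpq : p ≠ q) (hpr : p ≠ r) (hqr : q ≠ r) (h : ∀ a, a ≠ p → a ≠ q → a ≠ r → f a = 0) :
    ∑ a, f a = f p + f q + f r := by
  rw [← Finset.sum_subset (Finset.subset_univ ({p, q, r} : Finset α)) (fun a _ ha => by
    simp only [Finset.mem_insert, Finset.mem_singleton, not_or] at ha
    exact h a ha.1 ha.2.1 ha.2.2)]
  rw [Finset.sum_insert (by simp [hpq, hpr]), Finset.sum_pair hqr, add_assoc]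

namespace Conf.BFrame

open CfsgLib.ReeType CfsgLib.Characters CfsgLib.Induction
open scoped ComplexConjugate

universe u

variable {G : Type u} [Group G] [Fintype G]
variable {F : Type} [Field F] [Fintype F] [DecidableEq F]
variable {t : G} {K : Conf t F} {x w : G} (B : K.BFrame x w)

local notation "b" => oddTorus (Conf.q K)

include B

theorem exists_coeff (e z : ℂˣ) (χ : IrrCharacter G) :
    ∃ c : ℤ, classInner (B.psi e z) (χ : G → ℂ) = c :=
  classInner_generalized_int (B.psi_gen e z) (isGeneralizedCharacter_irr χ)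

/-- The coefficient. -/
noncomputable def coef (B : K.BFrame x w) (e z : ℂˣ) (χ : IrrCharacter G) : ℤ :=
  (B.exists_coeff e z χ).choose

theorem coef_spec (e z : ℂˣ) (χ : IrrCharacter G) :
    classInner (B.psi e z) (χ : G → ℂ) = B.coef e z χ :=
  (B.exists_coeff e z χ).choose_spec

theorem expand (e z : ℂˣ) (g : G) :
    B.psi e z g = ∑ χ : IrrCharacter G, (B.coef e z χ : ℂ) * (χ : G → ℂ) g := by
  conv_lhs => rw [classFunction_eq_sum (B.psi_class e z)]
  simp [Finset.sum_apply, B.coef_spec]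

theorem coef_deg {e z : ℂˣ} (he : e ^ 2 = 1) (hz : z ^ b = 1) :
    ∑ χ : IrrCharacter G, B.coef e z χ * (charDegree (χ : G → ℂ) : ℤ) = 0 := by
  have h := B.expand e z 1
  rw [B.psi_eq_zero he hz (mul_one 1)] at h
  have : ((∑ χ : IrrCharacter G, B.coef e z χ * (charDegree (χ : G → ℂ) : ℤ) : ℤ) : ℂ) = 0 := by
    push_cast
    rw [h]
    exact Finset.sum_congr rfl fun χ _ => by rw [CfsgLib.Chars17.cast_irrDegree]
  exact_mod_cast this

theorem coef_t {e z : ℂˣ} (he : e ^ 2 = 1) (hz : z ^ b = 1) :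
    ∑ χ : IrrCharacter G, (B.coef e z χ : ℂ) * (χ : G → ℂ) t = 0 := by
  rw [← B.expand, B.psi_eq_zero he hz K.t_mul_self]

theorem coef_inner (e e' z z' : ℂˣ) :
    ((∑ χ : IrrCharacter G, B.coef e z χ * B.coef e' z' χ : ℤ) : ℂ) =
      classInner (B.psi e z) (B.psi e' z') := by
  rw [classInner_eq_sum_mul (B.psi_class e' z')]
  push_cast
  exact Finset.sum_congr rfl fun χ _ => by rw [B.coef_spec, B.coef_spec, map_intCast]

theorem coef_norm {e z : ℂˣ} (he : e ^ 2 = 1) (hz : z ^ b = 1) (h1 : z ≠ 1) :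
    ∑ χ : IrrCharacter G, B.coef e z χ ^ 2 = 3 := by
  have h := B.coef_inner e e z z
  have hzz : z * z ≠ 1 := fun e' => h1 (by
    obtain ⟨c, hc⟩ := K.odd_b
    rwa [hc, pow_succ, pow_mul, pow_two z, e', one_pow, one_mul] at hz)
  have hee : (e : ℂ) * e = 1 := by rw [← Units.val_mul, ← pow_two, he, Units.val_one]
  rw [B.inner_psi he he hz hz h1 h1, if_neg hzz, if_pos rfl, hee] at h
  have h' : ((∑ χ : IrrCharacter G, B.coef e z χ * B.coef e z χ : ℤ) : ℂ) = ((3 : ℤ) : ℂ) := by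
    rw [h]; norm_num
  simp only [pow_two]
  exact_mod_cast h'

theorem coef_orth {z z' : ℂˣ} (hz : z ^ b = 1) (h1 : z ≠ 1) (hz' : z' ^ b = 1) (h1' : z' ≠ 1) :
    ∑ χ : IrrCharacter G, B.coef 1 z χ * B.coef (-1) z' χ = 0 := by
  have h := B.coef_inner 1 (-1) z z'
  rw [B.inner_psi (one_pow 2) neg_one_sq hz hz' h1 h1'] at h
  simp only [Units.val_one, Units.val_neg, one_mul, add_neg_cancel, zero_div, zero_mul] at h
  exact_mod_cast h

theorem coef_plus {z z' : ℂˣ} (hz : z ^ b = 1) (h1 : z ≠ 1) (hz' : z' ^ b = 1) (h1' : z' ≠ 1) :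
    2 ≤ ∑ χ : IrrCharacter G, B.coef 1 z χ * B.coef 1 z' χ := by
  have h := B.coef_inner 1 1 z z'
  rw [B.inner_psi (one_pow 2) (one_pow 2) hz hz' h1 h1'] at h
  simp only [Units.val_one, one_mul] at h
  rw [show ((1 : ℂ) + 1) / 2 = 1 by norm_num, one_mul] at h
  set S := ∑ χ : IrrCharacter G, B.coef 1 z χ * B.coef 1 z' χ
  split_ifs at h
  · have : S = 4 := by exact_mod_cast (show (S : ℂ) = 4 by rw [h]; norm_num)
    omega
  · have : S = 3 := by exact_mod_cast (show (S : ℂ) = 3 by rw [h]; norm_num)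
    omega
  · have : S = 3 := by exact_mod_cast (show (S : ℂ) = 3 by rw [h]; norm_num)
    omega
  · have : S = 2 := by exact_mod_cast (show (S : ℂ) = 2 by rw [h]; norm_num)
    omega

theorem coef_principal {e z : ℂˣ} (he : e ^ 2 = 1) (hz : z ^ b = 1) (h1 : z ≠ 1) :
    (B.coef e z (principalIrr G) : ℂ) = (1 + (e : ℂ)) / 2 := by
  rw [← B.coef_spec, B.inner_chi he hz (irr_isClassFunction _)]
  simp only [principalIrr_apply, map_one, mul_one]
  rw [← Finset.sum_mul, Finset.sum_sub_distrib,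
    B.sum_pow _ (by rw [← Units.val_pow_eq_pow_val, hz, Units.val_one]),
    if_neg (show ¬(z : ℂ) = 1 from fun h => h1 (Units.ext h))]
  simp only [Finset.sum_const, Finset.card_range, nsmul_eq_mul, mul_one, sub_zero]
  have hb0 : (b : ℂ) ≠ 0 := by
    have := K.five_le_b
    exact Nat.cast_ne_zero.2 (by omega)
  field_simp

theorem coef_plus_principal {z : ℂˣ} (hz : z ^ b = 1) (h1 : z ≠ 1) :
    B.coef 1 z (principalIrr G) = 1 := by
  have h := B.coef_principal (e := 1) (one_pow 2) hz h1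
  norm_num at h
  exact_mod_cast h

theorem coef_minus_principal {z : ℂˣ} (hz : z ^ b = 1) (h1 : z ≠ 1) :
    B.coef (-1) z (principalIrr G) = 0 := by
  have h := B.coef_principal (e := -1) neg_one_sq hz h1
  norm_num at h
  exact_mod_cast h

theorem isBElt {i : ℕ} (hi : x ^ i ≠ 1) : K.IsBElt (x ^ i) :=
  ⟨hi, B.x_t.pow_left i, B.x_ord ▸ orderOf_pow_dvd i⟩

/-- The difference at a character constant on the outer regular elements. -/
theorem coef_diff {z : ℂˣ} (hz : z ^ b = 1) (h1 : z ≠ 1) {χ : IrrCharacter G} {s : ℤ}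
    (hs : ∀ y, K.IsBElt y → (χ : G → ℂ) (t * y) = (s : ℂ)) :
    B.coef 1 z χ - B.coef (-1) z χ = s := by
  have hterm : ∀ i ∈ Finset.range b,
      (1 - (z : ℂ) ^ i) * conj ((χ : G → ℂ) (t * x ^ i)) = (1 - (z : ℂ) ^ i) * (s : ℂ) := by
    intro i hi
    by_cases h0 : i = 0
    · subst h0; simp
    · rw [hs _ (B.isBElt (B.pow_ne_one hi h0)), map_intCast]
  have hb0 : (b : ℂ) ≠ 0 := by
    have := K.five_le_b
    exact Nat.cast_ne_zero.2 (by omega)
  have h : ((B.coef 1 z χ - B.coef (-1) z χ : ℤ) : ℂ) = (s : ℂ) := by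
    push_cast
    rw [← B.coef_spec, ← B.coef_spec, B.inner_chi (one_pow 2) hz (irr_isClassFunction χ),
      B.inner_chi neg_one_sq hz (irr_isClassFunction χ), ← mul_sub, ← Finset.sum_sub_distrib]
    rw [Finset.sum_congr rfl (g := fun i => 2 * ((1 - (z : ℂ) ^ i) * (s : ℂ))) fun i hi => by
      rw [← hterm i hi, Units.val_one, Units.val_neg, Units.val_one]; ring]
    rw [← Finset.mul_sum, ← Finset.sum_mul, Finset.sum_sub_distrib,
      B.sum_pow _ (by rw [← Units.val_pow_eq_pow_val, hz, Units.val_one]),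
      if_neg (show ¬(z : ℂ) = 1 from fun h => h1 (Units.ext h)), Finset.sum_const,
      Finset.card_range, nsmul_eq_mul]
    field_simp
    ring
  exact_mod_cast h

/-- Divisibility from the orthogonality to all the functions. -/
theorem dvd_degree {χ : IrrCharacter G} {s : ℤ}
    (hs : ∀ y, K.IsBElt y → (χ : G → ℂ) (t * y) = (s : ℂ))
    (h0 : ∀ z : ℂˣ, z ^ b = 1 → z ≠ 1 → B.coef 1 z χ = 0) :
    (b : ℤ) ∣ (charDegree (χ : G → ℂ) : ℤ) + s := by
  have hb := K.five_le_b
  have hbne : b ≠ 0 := by omega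
  obtain ⟨ω, hω⟩ : ∃ ω : ℂˣ, IsPrimitiveRoot ω b :=
    ⟨_, (Complex.isPrimitiveRoot_exp b hbne).isUnit_unit hbne⟩
  set g : ℕ → ℂ := fun i => conj ((χ : G → ℂ) (x ^ i)) + conj ((χ : G → ℂ) (t * x ^ i))
  have hb0 : (b : ℂ) ≠ 0 := Nat.cast_ne_zero.2 hbne
  have hzero : ∀ m : ℕ, ∑ i ∈ Finset.range b, (1 - (((ω ^ m : ℂˣ) : ℂ)) ^ i) * g i = 0 := by
    intro m
    by_cases h1 : ω ^ m = 1
    · simp [h1]
    have hz : (ω ^ m) ^ b = 1 := by rw [← pow_mul, mul_comm, pow_mul, hω.pow_eq_one, one_pow]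
    have h := B.coef_spec 1 (ω ^ m) χ
    rw [h0 _ hz h1, B.inner_chi (one_pow 2) hz (irr_isClassFunction χ), Int.cast_zero] at h
    rcases mul_eq_zero.1 h with e | e
    · exact absurd e (inv_ne_zero (mul_ne_zero two_ne_zero hb0))
    · rw [← e]
      exact Finset.sum_congr rfl fun i _ => by rw [Units.val_one, one_mul]
  have hsum : ∑ i ∈ Finset.range b, g i = g 0 := by
    have h := Finset.sum_eq_zero (s := Finset.range b) fun m _ => hzero m
    rw [Finset.sum_comm] at h
    have hin : ∀ i ∈ Finset.range b,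
        ∑ m ∈ Finset.range b, (1 - (((ω ^ m : ℂˣ) : ℂ)) ^ i) * g i =
          (b : ℂ) * (if i = 0 then 0 else g i) := by
      intro i hi
      rw [← Finset.sum_mul, Finset.sum_sub_distrib]
      simp only [Units.val_pow_eq_pow_val, ← pow_mul, mul_comm _ i]
      simp only [pow_mul]
      rw [B.sum_pow _ (by
        rw [← Units.val_pow_eq_pow_val, ← Units.val_pow_eq_pow_val, ← pow_mul, mul_comm, pow_mul,
          hω.pow_eq_one, one_pow, Units.val_one]), Finset.sum_const, Finset.card_range]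
      have hiff : ((ω : ℂ) ^ i = 1) ↔ i = 0 := by
        rw [← Units.val_pow_eq_pow_val, Units.val_eq_one, hω.pow_eq_one_iff_dvd]
        exact ⟨fun h => Nat.eq_zero_of_dvd_of_lt h (Finset.mem_range.1 hi),
          fun h => h ▸ dvd_zero _⟩
      simp only [hiff, nsmul_eq_mul, mul_one]
      split_ifs with h <;> ring
    rw [Finset.sum_congr rfl hin, ← Finset.mul_sum, mul_eq_zero, or_iff_right hb0] at h
    have e : ∀ i ∈ Finset.range b, g i = (if i = 0 then g 0 else 0) + (if i = 0 then 0 else g i) :=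
      fun i _ => by split_ifs with h <;> simp [h]
    rw [Finset.sum_congr rfl e, Finset.sum_add_distrib, h, add_zero, Finset.sum_ite_eq',
      if_pos (Finset.mem_range.2 (by omega))]
  have hmult : ∀ ε : ℂˣ, ε ^ 2 = 1 → ∃ n : ℕ, (2 * (b : ℂ))⁻¹ * ∑ i ∈ Finset.range b,
      (conj ((χ : G → ℂ) (x ^ i)) + (ε : ℂ) * conj ((χ : G → ℂ) (t * x ^ i))) = n := by
    intro ε hε
    obtain ⟨n, hn⟩ := classInner_char_nat (isCharacter_indFun B.W
      (isCharacter_of_irr (isIrrCharacter_of_hom (B.lin ε 1)))) (irr_isCharacter χ)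
    refine ⟨n, ?_⟩
    rw [← hn, B.inner_ind _ (irr_isClassFunction χ)]
    congr 1
    refine Finset.sum_congr rfl fun i _ => ?_
    rw [B.lin_x hε (one_pow _), B.lin_tx hε (one_pow _)]
    simp
  obtain ⟨n₁, hn₁⟩ := hmult 1 (one_pow 2)
  obtain ⟨n₂, hn₂⟩ := hmult (-1) neg_one_sq
  simp only [Units.val_one, Units.val_neg, one_mul, neg_mul, Finset.sum_add_distrib,
    Finset.sum_neg_distrib] at hn₁ hn₂
  set A := ∑ i ∈ Finset.range b, conj ((χ : G → ℂ) (x ^ i))
  set T := ∑ i ∈ Finset.range b, conj ((χ : G → ℂ) (t * x ^ i))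
  have hA : A = (b : ℂ) * ((n₁ : ℂ) + n₂) := by
    rw [← hn₁, ← hn₂]; field_simp; ring
  have hT : T = conj ((χ : G → ℂ) t) + ((b : ℂ) - 1) * (s : ℂ) := by
    have hmem : (0 : ℕ) ∈ Finset.range b := Finset.mem_range.2 (by omega)
    show ∑ i ∈ Finset.range b, conj ((χ : G → ℂ) (t * x ^ i)) = _
    rw [← Finset.add_sum_erase _ _ hmem, pow_zero, mul_one,
      Finset.sum_congr rfl (g := fun _ => (s : ℂ)) fun i hi => by
        rw [hs _ (B.isBElt (B.pow_ne_one (Finset.mem_of_mem_erase hi) (Finset.ne_of_mem_erase hi))),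
          map_intCast],
      Finset.sum_const, Finset.card_erase_of_mem hmem, Finset.card_range, nsmul_eq_mul,
      Nat.cast_sub (by omega : 1 ≤ b), Nat.cast_one]
  have hg : A + T = (charDegree (χ : G → ℂ) : ℂ) + conj ((χ : G → ℂ) t) := by
    rw [← Finset.sum_add_distrib]
    refine hsum.trans ?_
    show conj ((χ : G → ℂ) (x ^ 0)) + conj ((χ : G → ℂ) (t * x ^ 0)) = _
    rw [pow_zero, mul_one, ← CfsgLib.Chars17.cast_irrDegree, map_natCast]
  refine ⟨(n₁ : ℤ) + n₂ + s, ?_⟩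
  have : (((charDegree (χ : G → ℂ) : ℤ) + s : ℤ) : ℂ) = (((b : ℤ) * ((n₁ : ℤ) + n₂ + s) : ℤ) : ℂ) := by
    push_cast
    linear_combination -hg + hA + hT
  exact_mod_cast this

end Conf.BFrame

end CfsgLib.ReeOrder
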