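import Cfsg.Agent.Lib.ReeOrder.Torus.Fun
import Cfsg.Agent.Lib.Characters.Decomp
import Cfsg.Agent.Lib.InvChar.InvolutionCount
import Cfsg.Agent.Lib.ReeOrder.Nums

/-!
Pairs of involutions with product in the torus, and the resulting equation.
-/

set_option autoImplicit false
set_option linter.unusedSectionVars false

namespace CfsgLib.ReeOrder.Conf.BFrame

open Cfsg CfsgLib.ReeType CfsgLib.Characters CfsgLib.Induction CfsgLib.InvChar CfsgLib.Involutions
open scoped ComplexConjugate Classical

universe u

variable {G : Type u} [Group G] [Fintype G]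
variable {F : Type} [Field F] [Fintype F] [DecidableEq F]
variable {t : G} {K : Conf t F} {x w : G} (B : K.BFrame x w)

local notation "b" => oddTorus (Conf.q K)

include B

theorem isConj_t {g : G} : IsConj t g ↔ orderOf g = 2 :=
  ⟨fun h => by
    obtain ⟨c, rfl⟩ := isConj_iff.1 h
    exact (orderOf_injective (MulAut.conj c).toMonoidHom (MulEquiv.injective _) t).trans K.orderOf_t,
    fun h => K.isConj_involution h⟩

theorem invs_eq : invs G = Finset.univ.filter (IsConj t) := by
  ext g
  simp only [mem_invs, Finset.mem_filter, Finset.mem_univ, true_and, B.isConj_t]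

theorem card_class : Nat.card {g : G // IsConj t g} = K.I := card_isConj_eq_index t

/-- The involutions that invert a regular element of the torus form the outer coset. -/
theorem invPairs_card {u : G} (hu : u ∈ B.W) (h2 : u * u ≠ 1) : (invPairs u).card = 2 * b := by
  obtain ⟨i, hi⟩ := B.mem_W.1 (B.mem_W_iff.1 hu)
  have hi1 : x ^ i ≠ 1 := fun e => h2 (by rw [B.sq_eq hi, e, one_mul])
  have heq : invPairs u = Finset.univ.filter fun a : G => w * a ∈ B.W := by
    ext a
    rw [Finset.mem_filter, mem_invPairs_iff_inverts, and_iff_right (Finset.mem_univ a)]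
    constructor
    · rintro ⟨-, -, hinv⟩
      refine (B.normalizer_cases hi1 hi (B.mem_W_iff.1 (hinv ▸ B.W.inv_mem hu))).resolve_left
        fun ha => h2 ?_
      rw [(B.comm_W ha hu).eq, mul_inv_cancel_right] at hinv
      exact mul_eq_one_iff_eq_inv.2 hinv
    · intro ha
      have hw := B.w_mul_self
      have ha' : a = w * (w * a) := by rw [← mul_assoc, hw, one_mul]
      have hc := B.w_conj_mem ha
      have hinv : a * u * a⁻¹ = u⁻¹ := by
        rw [ha', _root_.mul_inv_rev, show w * (w * a) * u * ((w * a)⁻¹ * w⁻¹) =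
          w * (w * a * u * (w * a)⁻¹) * w⁻¹ by group, (B.comm_W ha hu).eq, mul_inv_cancel_right,
          B.w_conj_mem hu]
      have haa : a * a = 1 := by
        calc a * a = (w * (w * a) * w⁻¹) * (w * a) := by
              rw [inv_eq_of_mul_eq_one_right hw, ← mul_assoc w w, hw, one_mul, mul_assoc,
                ← mul_assoc w w, hw, one_mul]
          _ = 1 := by rw [hc, inv_mul_cancel]
      have hne : ∀ c : G, c ∈ B.W → a ≠ c := fun c hc' e => B.w_notMem (by
        have := B.W.mul_mem ha (B.W.inv_mem (e.symm ▸ hc' : a ∈ B.W))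
        rwa [mul_inv_cancel_right] at this)
      refine ⟨orderOf_eq_prime (by rw [pow_two, haa]) (hne 1 B.W.one_mem), fun e => ?_, hinv⟩
      exact hne u⁻¹ (B.W.inv_mem hu) (mul_eq_one_iff_eq_inv.1 e)
  rw [heq, ← B.card_W, Nat.card_eq_fintype_card, Fintype.card_subtype]
  exact Finset.card_equiv (Equiv.mulLeft w) (by simp)

theorem card_G : (Nat.card G : ℂ) =
    8 * ((K.q : ℂ) * ((coTorus K.q : ℂ) * (b : ℂ))) * (K.I : ℂ) := by
  rw [← (Subgroup.centralizer ({t} : Set G)).card_mul_index, K.card_cent]
  push_cast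
  rfl

/-- The equation of the class multiplication. -/
theorem equation {e z : ℂˣ} (he : e ^ 2 = 1) (hz : z ^ b = 1) (h1 : z ≠ 1) :
    ((K.I : ℂ)) ^ 2 *
        ∑ χ : IrrCharacter G, classInner (B.psi e z) (χ : G → ℂ) *
          ((χ : G → ℂ) t ^ 2 / (χ : G → ℂ) 1) =
      (Nat.card G : ℂ) * ((1 + (e : ℂ)) * (b : ℂ)) := by
  have hpairs : ∀ χ : IrrCharacter G, ∑ a ∈ invs G, ∑ c ∈ invs G, (χ : G → ℂ) (a * c) =
      (K.I : ℂ) ^ 2 * ((χ : G → ℂ) t ^ 2 / (χ : G → ℂ) 1) := fun χ => by
    rw [B.invs_eq, CfsgLib.BSW.sum_class_product, B.card_class]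
  calc _ = ∑ χ : IrrCharacter G, classInner (B.psi e z) (χ : G → ℂ) *
          ∑ a ∈ invs G, ∑ c ∈ invs G, (χ : G → ℂ) (a * c) := by
        rw [Finset.mul_sum]
        exact Finset.sum_congr rfl fun χ _ => by rw [hpairs]; ring
    _ = ∑ a ∈ invs G, ∑ c ∈ invs G, B.psi e z (a * c) := by
        conv_rhs => rw [classFunction_eq_sum (B.psi_class e z)]
        simp only [Finset.sum_apply, Pi.smul_apply, smul_eq_mul, Finset.mul_sum]
        rw [Finset.sum_comm]
        exact Finset.sum_congr rfl fun a _ => Finset.sum_comm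
    _ = ∑ g : G, indFun B.W (B.phi e z) g * ((invPairs g).card : ℂ) :=
        CfsgLib.BSW.sum_pairs_apply _
    _ = (Nat.card G : ℂ) * ((1 + (e : ℂ)) * (b : ℂ)) := by
        have h := sum_indFun_mul B.W (B.phi e z)
          (f := fun g => ((invPairs g).card : ℂ)) (fun g y => by
            show ((invPairs (y * g * y⁻¹)).card : ℂ) = ((invPairs g).card : ℂ)
            rw [show (invPairs (y * g * y⁻¹)).card = (invPairs g).card from ?_]
            exact Finset.card_equiv (MulAut.conj y⁻¹).toEquiv fun a => by
              simp only [MulEquiv.toEquiv_eq_coe, EquivLike.coe_coe, mem_invPairs]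
              rw [← MulEquiv.orderOf_eq (MulAut.conj y⁻¹) a,
                ← MulEquiv.orderOf_eq (MulAut.conj y⁻¹) (a * (y * g * y⁻¹)), map_mul,
                show (MulAut.conj y⁻¹) (y * g * y⁻¹) = g by
                  simp only [MulAut.conj_apply]; group])
        have hG : (Nat.card G : ℂ) ≠ 0 := natCard_ne_zero'
        rw [inv_mul_eq_iff_eq_mul₀ hG] at h
        rw [h]
        congr 1
        have hterm : ∀ u : B.W, B.phi e z u * ((invPairs (u : G)).card : ℂ) =
            2 * (b : ℂ) * extendByZero B.W (B.phi e z) u := by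
          intro u
          rw [extendByZero_coe]
          by_cases hu : (u : G) * u = 1
          · rw [B.phi_eq_zero he hz hu]; ring
          · rw [B.invPairs_card u.2 hu]; push_cast; ring
        rw [Finset.sum_congr rfl fun u _ => hterm u, ← Finset.mul_sum,
          B.sum_W fun g => extendByZero B.W (B.phi e z) g, B.card_W]
        have hv : ∀ i ∈ Finset.range b, extendByZero B.W (B.phi e z) (x ^ i) +
            extendByZero B.W (B.phi e z) (t * x ^ i) = (1 + (e : ℂ)) * (1 - (z : ℂ) ^ i) := by
          intro i _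
          rw [B.ext_x, B.ext_tx, B.phi_x he hz, B.phi_tx he hz]; ring
        rw [Finset.sum_congr rfl hv, ← Finset.mul_sum, Finset.sum_sub_distrib,
          B.sum_pow _ (by rw [← Units.val_pow_eq_pow_val, hz, Units.val_one]),
          if_neg (show ¬(z : ℂ) = 1 from fun h => h1 (Units.ext h)), Finset.sum_const, Finset.card_range, nsmul_eq_mul]
        have hb0 : (b : ℂ) ≠ 0 := by
          have := K.five_le_b
          exact Nat.cast_ne_zero.2 (by omega)
        push_cast
        field_simp
        ring

end CfsgLib.ReeOrder.Conf.BFrame
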