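import Cfsg.Agent.Lib.ReeOrder.Torus.Local
import Cfsg.Agent.Lib.Characters.Induction
import Cfsg.Agent.Lib.Characters.Generalized
import Cfsg.Agent.Lib.BSW.ClassSum
import Mathlib.GroupTheory.SpecificGroups.Cyclic

/-!
The functions on the centralizer of the odd torus and their inductions to the group.
-/

set_option autoImplicit false
set_option linter.unusedSectionVars false

namespace CfsgLib.ReeOrder.Conf.BFrame

open Cfsg CfsgLib.ReeType CfsgLib.Characters CfsgLib.Induction CfsgLib.InvChar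
open scoped ComplexConjugate Classical

universe u

variable {G : Type u} [Group G] [Fintype G]
variable {F : Type} [Field F] [Fintype F] [DecidableEq F]
variable {t : G} {K : Conf t F} {x w : G} (B : K.BFrame x w)

local notation "b" => oddTorus (Conf.q K)

/-- The centralizer of the torus. -/
abbrev W (_B : K.BFrame x w) : Subgroup G := Subgroup.centralizer ({x} : Set G)

include B

theorem mem_W_iff {g : G} : g ∈ B.W ↔ Commute g x :=
  Subgroup.mem_centralizer_singleton_iff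

theorem tx_mem_W (i : ℕ) : t * x ^ i ∈ B.W :=
  B.mem_W_iff.2 (B.mem_W.2 ⟨i, Or.inr rfl⟩)

theorem x_mem_W (i : ℕ) : x ^ i ∈ B.W :=
  B.mem_W_iff.2 (B.mem_W.2 ⟨i, Or.inl rfl⟩)

theorem pow_mod (i : ℕ) : x ^ i = x ^ (i % b) := by
  rw [← B.x_ord, pow_mod_orderOf]

theorem pow_ne_one {i : ℕ} (hi : i ∈ Finset.range b) (h0 : i ≠ 0) : x ^ i ≠ 1 :=
  pow_ne_one_of_lt_orderOf h0 (by rw [B.x_ord]; exact Finset.mem_range.1 hi)

/-- The two cosets of the torus. -/
theorem sum_W (f : G → ℂ) :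
    ∑ u : B.W, f u = ∑ i ∈ Finset.range b, (f (x ^ i) + f (t * x ^ i)) := by
  let S₁ : Finset G := (Finset.range b).image (x ^ ·)
  let S₂ : Finset G := (Finset.range b).image (t * x ^ ·)
  have hinj : Set.InjOn (x ^ ·) (Finset.range b : Set ℕ) := fun i hi j hj e =>
    pow_injOn_Iio_orderOf (by simpa [B.x_ord] using hi) (by simpa [B.x_ord] using hj) e
  have hS : Finset.univ.filter (fun g : G => g ∈ B.W) = S₁ ∪ S₂ := by
    ext g
    simp only [S₁, S₂, Finset.mem_filter, Finset.mem_univ, true_and, Finset.mem_union,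
      Finset.mem_image, Finset.mem_range, B.mem_W_iff, B.mem_W]
    constructor
    · rintro ⟨j, rfl | rfl⟩
      · exact Or.inl ⟨j % b, Nat.mod_lt _ (by have := K.five_le_b; omega), (B.pow_mod j).symm⟩
      · exact Or.inr ⟨j % b, Nat.mod_lt _ (by have := K.five_le_b; omega), by rw [← B.pow_mod]⟩
    · rintro (⟨i, -, rfl⟩ | ⟨i, -, rfl⟩)
      exacts [⟨i, Or.inl rfl⟩, ⟨i, Or.inr rfl⟩]
  have hdis : Disjoint S₁ S₂ := by
    rw [Finset.disjoint_left]
    intro g h1 h2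
    obtain ⟨i, -, rfl⟩ := Finset.mem_image.1 h1
    obtain ⟨j, -, e⟩ := Finset.mem_image.1 h2
    change t * x ^ j = x ^ i at e
    have h1 : (x ^ i) ^ b = 1 := by rw [← pow_mul, mul_comm, pow_mul, B.pow_b, one_pow]
    rw [← e, (B.t_comm j).mul_pow, ← pow_mul, mul_comm j, pow_mul, B.pow_b, one_pow, mul_one] at h1
    obtain ⟨c, hc⟩ := K.odd_b
    rw [hc, pow_succ, pow_mul, pow_two, K.t_mul_self, one_pow, one_mul] at h1
    exact K.t_ne_one h1
  rw [← Finset.sum_subtype (Finset.univ.filter fun g : G => g ∈ B.W) (by simp) f, hS,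
    Finset.sum_union hdis, Finset.sum_image hinj,
    Finset.sum_image fun i hi j hj e => hinj hi hj (mul_left_cancel e), Finset.sum_add_distrib]

theorem card_W : Nat.card B.W = 2 * b := by
  have h := B.sum_W fun _ => 1
  simp only [Finset.sum_const, Finset.card_univ, nsmul_eq_mul, mul_one, Finset.card_range] at h
  rw [Nat.card_eq_fintype_card]
  have h' : (Fintype.card B.W : ℂ) = ((2 * b : ℕ) : ℂ) := by rw [h]; push_cast; ring
  exact_mod_cast h'

/-- The generator of the centralizer of the torus. -/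
abbrev gen (B : K.BFrame x w) : B.W := ⟨t * x, by simpa using B.tx_mem_W 1⟩

theorem gen_pow (i : ℕ) : (B.gen ^ i : G) = t ^ i * x ^ i :=
  (show Commute t x from B.x_t.symm).mul_pow i

theorem t_pow (i : ℕ) : t ^ (2 * i) = 1 := by rw [pow_mul, pow_two, K.t_mul_self, one_pow]

theorem gen_pow_x (i : ℕ) : B.gen ^ ((b + 1) * i) = ⟨x ^ i, B.x_mem_W i⟩ := by
  refine Subtype.ext ?_
  rw [Subgroup.coe_pow, B.gen_pow]
  obtain ⟨c, hc⟩ := K.odd_b
  rw [show t ^ ((b + 1) * i) = 1 by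
      rw [show (b + 1) * i = 2 * ((c + 1) * i) by rw [hc]; ring, B.t_pow],
    one_mul, add_mul, one_mul, pow_add, pow_mul, B.pow_b, one_pow, one_mul]

theorem gen_pow_tx (i : ℕ) :
    B.gen ^ (b + (b + 1) * i) = ⟨t * x ^ i, B.tx_mem_W i⟩ := by
  refine Subtype.ext ?_
  rw [pow_add, Subgroup.coe_mul, B.gen_pow_x, Subgroup.coe_pow, B.gen_pow, B.pow_b, mul_one]
  obtain ⟨c, hc⟩ := K.odd_b
  rw [show t ^ b = t by rw [hc, pow_succ, B.t_pow, one_mul]]

theorem mem_zpowers_gen (u : B.W) : u ∈ Subgroup.zpowers B.gen := by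
  obtain ⟨g, hg⟩ := u
  obtain ⟨j, rfl | rfl⟩ := B.mem_W.1 (B.mem_W_iff.1 hg)
  · exact ⟨((b + 1) * j : ℕ), by simp only [zpow_natCast]; exact B.gen_pow_x j⟩
  · exact ⟨(b + (b + 1) * j : ℕ), by simp only [zpow_natCast]; exact B.gen_pow_tx j⟩

theorem orderOf_gen : orderOf B.gen = 2 * b := by
  rw [← B.card_W]
  exact orderOf_eq_card_of_forall_mem_zpowers B.mem_zpowers_gen

theorem exists_hom (e z : ℂˣ) (he : e ^ 2 = 1) (hz : z ^ b = 1) :
    ∃ m : B.W →* ℂˣ, (∀ i, m ⟨x ^ i, B.x_mem_W i⟩ = z ^ i) ∧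
      ∀ i, m ⟨t * x ^ i, B.tx_mem_W i⟩ = e * z ^ i := by
  have hord : orderOf (e * z) ∣ orderOf B.gen := by
    rw [B.orderOf_gen]
    refine orderOf_dvd_of_pow_eq_one ?_
    rw [mul_pow, pow_mul, he, one_pow, one_mul, mul_comm, pow_mul, hz, one_pow]
  let m := monoidHomOfForallMemZpowers B.mem_zpowers_gen hord
  have hm : m B.gen = e * z := monoidHomOfForallMemZpowers_apply_gen _ _
  obtain ⟨c, hc⟩ := K.odd_b
  have hx : ∀ i, m ⟨x ^ i, B.x_mem_W i⟩ = z ^ i := fun i => by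
    rw [← B.gen_pow_x, map_pow, hm, mul_pow,
      show e ^ ((b + 1) * i) = 1 by
        rw [show (b + 1) * i = 2 * ((c + 1) * i) by rw [hc]; ring, pow_mul, he, one_pow],
      one_mul, add_mul, one_mul, pow_add, pow_mul, hz, one_pow, one_mul]
  refine ⟨m, hx, fun i => ?_⟩
  rw [← B.gen_pow_tx, pow_add, map_mul, B.gen_pow_x, hx, map_pow, hm, mul_pow, hz, mul_one,
    hc, pow_succ, pow_mul, he, one_pow, one_mul]

/-- The linear characters of the centralizer. -/
noncomputable def lin (B : K.BFrame x w) (e z : ℂˣ) : B.W →* ℂˣ :=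
  if h : e ^ 2 = 1 ∧ z ^ b = 1 then (B.exists_hom e z h.1 h.2).choose else 1

theorem lin_x {e z : ℂˣ} (he : e ^ 2 = 1) (hz : z ^ b = 1) (i : ℕ) :
    B.lin e z ⟨x ^ i, B.x_mem_W i⟩ = z ^ i := by
  rw [lin, dif_pos ⟨he, hz⟩]; exact (B.exists_hom e z he hz).choose_spec.1 i

theorem lin_tx {e z : ℂˣ} (he : e ^ 2 = 1) (hz : z ^ b = 1) (i : ℕ) :
    B.lin e z ⟨t * x ^ i, B.tx_mem_W i⟩ = e * z ^ i := by
  rw [lin, dif_pos ⟨he, hz⟩]; exact (B.exists_hom e z he hz).choose_spec.2 i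

/-- The function with vanishing degree. -/
noncomputable def phi (e z : ℂˣ) : B.W → ℂ := fun u => (B.lin e 1 u : ℂ) - (B.lin e z u : ℂ)

/-- Its induction. -/
noncomputable def psi (e z : ℂˣ) : G → ℂ := indFun B.W (B.phi e z)

theorem phi_x {e z : ℂˣ} (he : e ^ 2 = 1) (hz : z ^ b = 1) (i : ℕ) :
    B.phi e z ⟨x ^ i, B.x_mem_W i⟩ = 1 - (z : ℂ) ^ i := by
  rw [phi, B.lin_x he (one_pow _), B.lin_x he hz]; simp

theorem phi_tx {e z : ℂˣ} (he : e ^ 2 = 1) (hz : z ^ b = 1) (i : ℕ) :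
    B.phi e z ⟨t * x ^ i, B.tx_mem_W i⟩ = (e : ℂ) * (1 - (z : ℂ) ^ i) := by
  rw [phi, B.lin_tx he (one_pow _), B.lin_tx he hz]; push_cast; ring

theorem psi_gen (e z : ℂˣ) : IsGeneralizedCharacter G (B.psi e z) :=
  ⟨indFun B.W (fun u => (B.lin e 1 u : ℂ)), indFun B.W (fun u => (B.lin e z u : ℂ)),
    isCharacter_indFun _ (isCharacter_of_irr (isIrrCharacter_of_hom _)),
    isCharacter_indFun _ (isCharacter_of_irr (isIrrCharacter_of_hom _)),
    by rw [psi, ← indFun_sub]; rfl⟩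

theorem psi_class (e z : ℂˣ) : IsClassFunction G (B.psi e z) := isClassFunction_indFun _ _

/-- The value on the whole group of an element of the subgroup. -/
theorem ext_x (f : B.W → ℂ) (i : ℕ) : extendByZero B.W f (x ^ i) = f ⟨x ^ i, B.x_mem_W i⟩ :=
  extendByZero_mem _ f _

theorem ext_tx (f : B.W → ℂ) (i : ℕ) :
    extendByZero B.W f (t * x ^ i) = f ⟨t * x ^ i, B.tx_mem_W i⟩ :=
  extendByZero_mem _ f _

/-- Frobenius reciprocity in the coordinates. -/
theorem inner_ind (f : B.W → ℂ) {h : G → ℂ} (hh : IsClassFunction G h) :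
    classInner (indFun B.W f) h = (2 * (b : ℂ))⁻¹ * ∑ i ∈ Finset.range b,
      (f ⟨x ^ i, B.x_mem_W i⟩ * conj (h (x ^ i)) +
        f ⟨t * x ^ i, B.tx_mem_W i⟩ * conj (h (t * x ^ i))) := by
  rw [classInner_indFun _ _ hh, classInner, B.card_W]
  push_cast
  congr 1
  have e := B.sum_W fun g => extendByZero B.W f g * conj (h g)
  simp only [extendByZero_coe, B.ext_x, B.ext_tx] at e
  exact e

/-- An element of square one meets the functions only trivially. -/
theorem phi_eq_zero {e z : ℂˣ} (he : e ^ 2 = 1) (hz : z ^ b = 1) {u : B.W}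
    (hu : (u : G) * u = 1) : B.phi e z u = 0 := by
  obtain ⟨g, hg⟩ := u
  obtain ⟨j, hj⟩ := B.mem_W.1 (B.mem_W_iff.1 hg)
  have hd : b ∣ j := by
    rw [← B.x_ord]
    exact orderOf_dvd_of_pow_eq_one (B.eq_one_of_sq (by rw [← B.sq_eq hj]; exact hu))
  have hzj : (z : ℂ) ^ j = 1 := by
    rw [← Units.val_pow_eq_pow_val]
    obtain ⟨c, rfl⟩ := hd
    rw [pow_mul, hz, one_pow, Units.val_one]
  rcases hj with rfl | rfl
  · rw [B.phi_x he hz, hzj, sub_self]
  · rw [B.phi_tx he hz, hzj, sub_self, mul_zero]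

theorem psi_eq_zero {e z : ℂˣ} (he : e ^ 2 = 1) (hz : z ^ b = 1) {g : G} (hg : g * g = 1) :
    B.psi e z g = 0 := by
  rw [psi, indFun_apply, Finset.sum_eq_zero fun y _ => ?_, mul_zero]
  by_cases hy : y⁻¹ * g * y ∈ B.W
  · rw [extendByZero_mem _ _ hy]
    refine B.phi_eq_zero he hz ?_
    show y⁻¹ * g * y * (y⁻¹ * g * y) = 1
    rw [show y⁻¹ * g * y * (y⁻¹ * g * y) = y⁻¹ * (g * g) * y by group, hg, mul_one, inv_mul_cancel]
  · exact extendByZero_notMem _ _ hy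

theorem normalizer_cases {g : G} {i : ℕ} {y : G} (hi : x ^ i ≠ 1)
    (hy : y = x ^ i ∨ y = t * x ^ i) (hc : Commute (g * y * g⁻¹) x) :
    g ∈ B.W ∨ w * g ∈ B.W := by
  obtain ⟨-, h | h⟩ := B.conj_cases hi hy hc
  · exact Or.inl (B.mem_W_iff.2 (mul_inv_eq_iff_eq_mul.1 h))
  · exact Or.inr (B.mem_W_iff.2 ((B.inverted_of_mul g).1 h))

theorem w_notMem : w ∉ B.W := fun h => B.w_not_mem (B.mem_W_iff.1 h)

theorem comm_W {u v : G} (hu : u ∈ B.W) (hv : v ∈ B.W) : Commute u v := by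
  obtain ⟨i, hi⟩ := B.mem_W.1 (B.mem_W_iff.1 hu)
  obtain ⟨j, hj⟩ := B.mem_W.1 (B.mem_W_iff.1 hv)
  have ht : ∀ k : ℕ, Commute t (x ^ k) := B.t_comm
  have hx : Commute (x ^ i) (x ^ j) := (Commute.refl x).pow_pow i j
  rcases hi with rfl | rfl <;> rcases hj with rfl | rfl
  · exact hx
  · exact (ht i).symm.mul_right hx
  · exact (ht j).mul_left hx
  · exact ((Commute.refl t).mul_right (ht j)).mul_left ((ht i).symm.mul_right hx)

theorem w_conj {u : G} {i : ℕ} (hu : u = x ^ i ∨ u = t * x ^ i) : w * u * w⁻¹ = u⁻¹ := by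
  rcases hu with rfl | rfl
  · exact B.w_pow i
  · rw [← mul_assoc w t, B.w_t.eq, mul_assoc t, mul_assoc, B.w_pow, _root_.mul_inv_rev,
      inv_eq_of_mul_eq_one_right K.t_mul_self, ((B.t_comm i).inv_right).eq]

theorem w_conj_mem {u : G} (hu : u ∈ B.W) : w * u * w⁻¹ = u⁻¹ := by
  obtain ⟨j, hj⟩ := B.mem_W.1 (B.mem_W_iff.1 hu)
  exact B.w_conj hj

/-- Values of an induced function on the torus. -/
theorem psi_apply {e z : ℂˣ} (he : e ^ 2 = 1) (hz : z ^ b = 1) (u : B.W) :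
    B.psi e z u = B.phi e z u + B.phi e z u⁻¹ := by
  obtain ⟨g, hg⟩ := u
  obtain ⟨i, hi⟩ := B.mem_W.1 (B.mem_W_iff.1 hg)
  by_cases hi1 : x ^ i = 1
  · have h1 : g * g = 1 := by rw [B.sq_eq hi, hi1, one_mul]
    rw [B.psi_eq_zero he hz h1, B.phi_eq_zero he hz h1, B.phi_eq_zero he hz, add_zero]
    show g⁻¹ * g⁻¹ = 1
    rw [← _root_.mul_inv_rev, h1, inv_one]
  rw [psi, indFun_apply]
  show (Nat.card B.W : ℂ)⁻¹ * ∑ y : G, extendByZero B.W (B.phi e z) (y⁻¹ * g * y) = _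
  set φ := extendByZero B.W (B.phi e z)
  have hterm : ∀ y : G, φ (y⁻¹ * g * y) =
      (if y ∈ B.W then B.phi e z ⟨g, hg⟩ else 0) +
        (if w * y ∈ B.W then B.phi e z ⟨g, hg⟩⁻¹ else 0) := by
    intro y
    by_cases h1 : y ∈ B.W
    · rw [if_pos h1, if_neg (fun h => B.w_notMem (by simpa using B.W.mul_mem h (B.W.inv_mem h1))),
        add_zero, mul_assoc, (B.comm_W hg h1).eq, inv_mul_cancel_left]
      exact extendByZero_mem _ _ hg
    · by_cases h2 : w * y ∈ B.W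
      · rw [if_neg h1, if_pos h2, zero_add,
          show y⁻¹ * g * y = (w * y)⁻¹ * (w * g * w⁻¹) * (w * y) by group, B.w_conj_mem hg,
          mul_assoc, (B.comm_W (B.W.inv_mem hg) h2).eq, inv_mul_cancel_left]
        exact extendByZero_mem _ _ (B.W.inv_mem hg)
      · rw [if_neg h1, if_neg h2, add_zero]
        refine extendByZero_notMem _ _ fun hc => ?_
        rcases B.normalizer_cases (g := y⁻¹) hi1 hi (B.mem_W_iff.1 (by rwa [inv_inv])) with h | h
        · exact h1 (by simpa using B.W.inv_mem h)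
        · refine h2 ?_
          have h' := B.W.inv_mem h
          rw [_root_.mul_inv_rev, inv_inv, inv_eq_of_mul_eq_one_right B.w_mul_self] at h'
          -- `y w` in the centralizer gives `w y` there
          have h'' := B.w_conj_mem h'
          have e' : w * (y * w) * w⁻¹ = w * y := by group
          rw [e'] at h''
          rw [h'']
          exact B.W.inv_mem h'
  rw [Finset.sum_congr rfl fun y _ => hterm y, Finset.sum_add_distrib, ← Finset.sum_filter,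
    ← Finset.sum_filter, Finset.sum_const, Finset.sum_const]
  have hW : (Finset.univ.filter fun y : G => y ∈ B.W).card = Nat.card B.W := by
    rw [Nat.card_eq_fintype_card, Fintype.card_subtype]
  have hwW : (Finset.univ.filter fun y : G => w * y ∈ B.W).card = Nat.card B.W := by
    rw [← hW]
    exact Finset.card_equiv (Equiv.mulLeft w) (by simp)
  rw [hW, hwW, nsmul_eq_mul, nsmul_eq_mul, ← mul_add, inv_mul_cancel_left₀ natCard_ne_zero']

theorem conj_phi {e z : ℂˣ} (he : e ^ 2 = 1) (hz : z ^ b = 1) (u : B.W) :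
    conj (B.phi e z u) = B.phi e z u⁻¹ := by
  have key : ∀ m : B.W →* ℂˣ, conj (m u : ℂ) = (m u⁻¹ : ℂ) := fun m =>
    (irr_apply_inv (⟨_, isIrrCharacter_of_hom m⟩ : IrrCharacter B.W) u).symm
  simp only [phi, map_sub, key]

theorem conj_psi {e z : ℂˣ} (he : e ^ 2 = 1) (hz : z ^ b = 1) (u : B.W) :
    conj (B.psi e z u) = B.psi e z u := by
  rw [B.psi_apply he hz, map_add, B.conj_phi he hz, B.conj_phi he hz, inv_inv, add_comm]

theorem inv_x (i : ℕ) {z : ℂˣ} {e : ℂˣ} (he : e ^ 2 = 1) (hz : z ^ b = 1) :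
    (B.lin e z ⟨x ^ i, B.x_mem_W i⟩⁻¹ : ℂ) = ((z : ℂ)⁻¹) ^ i ∧
      (B.lin e z ⟨t * x ^ i, B.tx_mem_W i⟩⁻¹ : ℂ) = (e : ℂ) * ((z : ℂ)⁻¹) ^ i := by
  have he' : e⁻¹ = e := inv_eq_of_mul_eq_one_right (by rw [← pow_two, he])
  rw [map_inv, map_inv, B.lin_x he hz, B.lin_tx he hz, mul_inv, he']
  simp [inv_pow]

/-- The geometric sum over the torus. -/
theorem sum_pow (z : ℂ) (hz : z ^ b = 1) :
    ∑ i ∈ Finset.range b, z ^ i = if z = 1 then (b : ℂ) else 0 := by
  split_ifs with h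
  · simp [h]
  · rw [geom_sum_eq h, hz, sub_self, zero_div]

/-- The inner products. -/
theorem inner_psi {e e' z z' : ℂˣ} (he : e ^ 2 = 1) (he' : e' ^ 2 = 1) (hz : z ^ b = 1)
    (hz' : z' ^ b = 1) (h1 : z ≠ 1) (h1' : z' ≠ 1) :
    classInner (B.psi e z) (B.psi e' z') = (1 + (e : ℂ) * e') / 2 *
      (2 + (if z * z' = 1 then 1 else 0) + (if z = z' then 1 else 0)) := by
  rw [psi, B.inner_ind _ (B.psi_class e' z')]
  have hv : ∀ i ∈ Finset.range b,
      B.phi e z ⟨x ^ i, B.x_mem_W i⟩ * conj (B.psi e' z' (x ^ i)) +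
        B.phi e z ⟨t * x ^ i, B.tx_mem_W i⟩ * conj (B.psi e' z' (t * x ^ i)) =
      (1 + (e : ℂ) * e') * (2 - 2 * (z : ℂ) ^ i - (z' : ℂ) ^ i - ((z' : ℂ)⁻¹) ^ i +
        ((z : ℂ) * z') ^ i + ((z : ℂ) * (z' : ℂ)⁻¹) ^ i) := by
    intro i _
    have hxi := B.conj_psi he' hz' ⟨x ^ i, B.x_mem_W i⟩
    have hti := B.conj_psi he' hz' ⟨t * x ^ i, B.tx_mem_W i⟩
    simp only at hxi hti
    rw [hxi, hti]
    have hxa := B.psi_apply he' hz' ⟨x ^ i, B.x_mem_W i⟩
    have hta := B.psi_apply he' hz' ⟨t * x ^ i, B.tx_mem_W i⟩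
    simp only at hxa hta
    rw [hxa, hta, B.phi_x he hz, B.phi_tx he hz, B.phi_x he' hz', B.phi_tx he' hz']
    simp only [phi, (B.inv_x i he' hz').1, (B.inv_x i he' hz').2, (B.inv_x i he' (one_pow b)).1,
      (B.inv_x i he' (one_pow b)).2, Units.val_one, inv_one, one_pow, mul_one, mul_pow]
    ring
  rw [Finset.sum_congr rfl hv, ← Finset.mul_sum]
  have hzc : (z : ℂ) ^ b = 1 := by rw [← Units.val_pow_eq_pow_val, hz, Units.val_one]
  have hzc' : (z' : ℂ) ^ b = 1 := by rw [← Units.val_pow_eq_pow_val, hz', Units.val_one]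
  simp only [Finset.sum_add_distrib, Finset.sum_sub_distrib, ← Finset.mul_sum, Finset.sum_const,
    Finset.card_range, nsmul_eq_mul]
  rw [B.sum_pow _ hzc, B.sum_pow _ hzc', B.sum_pow _ (by rw [inv_pow, hzc', inv_one]),
    B.sum_pow _ (by rw [mul_pow, hzc, hzc', one_mul]),
    B.sum_pow _ (by rw [mul_pow, inv_pow, hzc, hzc', inv_one, one_mul]),
    if_neg (show ¬(z : ℂ) = 1 from fun h => h1 (Units.ext h)),
    if_neg (show ¬(z' : ℂ) = 1 from fun h => h1' (Units.ext h)),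
    if_neg (show ¬(z' : ℂ)⁻¹ = 1 from fun h => h1' (Units.ext (inv_eq_one.1 h)))]
  have hA : ((z : ℂ) * z' = 1) ↔ z * z' = 1 := by rw [← Units.val_mul, Units.val_eq_one]
  have hB : ((z : ℂ) * (z' : ℂ)⁻¹ = 1) ↔ z = z' := by
    rw [mul_inv_eq_one₀ (Units.ne_zero z'), Units.val_inj]
  have hb0 : (b : ℂ) ≠ 0 := by
    have := K.five_le_b
    exact Nat.cast_ne_zero.2 (by omega)
  simp only [hA, hB]
  split_ifs <;> field_simp <;> ring

/-- The coefficient of an irreducible character. -/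
theorem inner_chi {e z : ℂˣ} (he : e ^ 2 = 1) (hz : z ^ b = 1) {h : G → ℂ}
    (hh : IsClassFunction G h) :
    classInner (B.psi e z) h = (2 * (b : ℂ))⁻¹ * ∑ i ∈ Finset.range b,
      (1 - (z : ℂ) ^ i) * (conj (h (x ^ i)) + (e : ℂ) * conj (h (t * x ^ i))) := by
  rw [psi, B.inner_ind _ hh]
  congr 1
  refine Finset.sum_congr rfl fun i _ => ?_
  rw [B.phi_x he hz, B.phi_tx he hz]
  ring

end CfsgLib.ReeOrder.Conf.BFrame
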