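import Cfsg.Agent.Lib.ReeOrder.Setup

/-!
The odd torus with its centralizer and normalizer in the whole group.
-/

set_option autoImplicit false
set_option linter.unusedSectionVars false

namespace CfsgLib.ReeOrder.Conf

open Cfsg CfsgLib.ReeType

universe u

variable {G : Type u} [Group G] [Fintype G]
variable {F : Type} [Field F] [Fintype F] [DecidableEq F]
variable {t : G} (K : Conf t F)

local notation "PSL2" => Matrix.ProjectiveSpecialLinearGroup (Fin 2) F

/-- A generator of the odd torus with an inverting involution. -/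
structure BFrame (x w : G) : Prop where
  x_ord : orderOf x = oddTorus K.q
  x_t : Commute x t
  w_two : orderOf w = 2
  w_t : Commute w t
  w_inv : w * x * w⁻¹ = x⁻¹
  cent : ∀ i : ℕ, x ^ i ≠ 1 → ∀ h : G, Commute h (x ^ i) → ∃ j : ℕ, h = x ^ j ∨ h = t * x ^ j
  inv_or_comm : ∀ h : G, Commute h t → (∃ j : ℕ, h * x * h⁻¹ = x ^ j) →
    h * x * h⁻¹ = x ∨ h * x * h⁻¹ = x⁻¹

/-- There is such a generator. -/
theorem exists_bFrame (hT : K.TorusCentralizers) : ∃ x w : G, K.BFrame x w := by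
  have hb := K.five_le_b
  have hbo := K.odd_b
  obtain ⟨l, hl, hlb⟩ := Nat.exists_prime_and_dvd (n := oddTorus K.q) (by omega)
  haveI := Fact.mk hl
  obtain ⟨g₀, hg₀⟩ := exists_prime_orderOf_dvd_card' (G := PSL2) l (by
    rw [Psl.card_psl_eq K.q_mod K.q_ge]
    exact Dvd.dvd.mul_left hlb _)
  have hg1 : g₀ ≠ 1 := fun e => hl.ne_one (by rw [← hg₀, e, orderOf_one])
  obtain ⟨C, hC, -, hcard, -⟩ := Psl.exists_torus_odd K.q_mod K.q_ge hg1
    (by rw [hg₀]; exact hlb)
  haveI := hC.cyclic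
  obtain ⟨⟨g, hg⟩, hgen⟩ := IsCyclic.exists_generator (α := C)
  have hgo : orderOf g = oddTorus K.q := by
    rw [← Subgroup.orderOf_mk g hg, orderOf_eq_card_of_forall_mem_zpowers hgen, hcard]; rfl
  have hmem : ∀ c ∈ C, ∃ j : ℕ, c = g ^ j := by
    intro c hc
    obtain ⟨j, hj⟩ := (isOfFinOrder_of_finite (⟨g, hg⟩ : C)).mem_powers_iff_mem_zpowers.2
      (hgen ⟨c, hc⟩)
    exact ⟨j, by simpa using (congrArg Subtype.val hj).symm⟩
  have hodd : ∀ {c : PSL2}, c ∈ C → c * c = 1 → c = 1 := by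
    intro c hc h2
    have h3 : orderOf c ∣ oddTorus K.q := by
      rw [← Subgroup.orderOf_mk c hc, K.q_eq, ← hcard]; exact orderOf_dvd_natCard _
    refine orderOf_eq_one_iff.1 (Nat.dvd_one.1 ?_)
    exact (Nat.coprime_two_right.2 hbo).symm ▸
      Nat.dvd_gcd (orderOf_dvd_of_pow_eq_one (show c ^ 2 = 1 by rw [pow_two, h2])) h3
  obtain ⟨w, hw2, hwC, hwinv⟩ := hC.inverter
  have hup : ∀ i : ℕ, (K.cent.up g) ^ i = K.cent.up (g ^ i) := fun i => (map_pow _ _ _).symm
  refine ⟨K.cent.up g, K.cent.up w, ?_, K.mul_t_comm g, ?_, K.mul_t_comm w, ?_, ?_, ?_⟩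
  · rw [orderOf_injective K.cent.up K.cent.up_injective, hgo]
  · rw [orderOf_injective K.cent.up K.cent.up_injective, hw2]
  · rw [← map_inv, ← map_mul, ← map_mul, hwinv g hg, map_inv]
  · intro i hi h hh
    have hgi : g ^ i ≠ 1 := fun e => hi (by rw [hup, e, map_one])
    have hB : K.IsBElt (K.cent.up g ^ i) := by
      refine ⟨hi, (K.mul_t_comm g).pow_left i, ?_⟩
      rw [hup, orderOf_injective K.cent.up K.cent.up_injective, ← hgo]
      exact orderOf_pow_dvd i
    obtain ⟨k, hk⟩ := K.cent_cases (hT _ hB h hh).1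
    have hkC : Commute k (g ^ i) := by
      refine K.up_inj ?_
      rw [map_mul, map_mul]
      rw [hup] at hh
      rcases hk with rfl | rfl
      · exact hh.eq
      · have htc : Commute t (K.cent.up (g ^ i)) := (K.mul_t_comm _).symm
        have h1 := hh.eq
        rw [← mul_assoc (K.cent.up (g ^ i)), ← htc.eq, mul_assoc, mul_assoc] at h1
        exact mul_left_cancel h1
    obtain ⟨j, hj⟩ := hmem k (hC.cent _ (pow_mem hg i)
      (fun e => hgi (hodd (pow_mem hg i) e)) k hkC)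
    refine ⟨j, ?_⟩
    rw [hup, ← hj]
    exact hk
  · intro h hh ⟨j, hj⟩
    obtain ⟨k, hk⟩ := K.cent_cases hh
    have hconj : k * g * k⁻¹ = g ^ j := by
      refine K.up_inj ?_
      rw [map_mul, map_mul, map_inv, map_pow, ← hj]
      rcases hk with rfl | rfl
      · rfl
      · rw [mul_inv_rev, (K.mul_t_comm k).symm.eq]
        have htc : Commute t (K.cent.up g) := (K.mul_t_comm g).symm
        symm
        calc K.cent.up k * t * K.cent.up g * ((K.cent.up k)⁻¹ * t⁻¹)
            = K.cent.up k * (K.cent.up g * t) * ((K.cent.up k)⁻¹ * t⁻¹) := by rw [← htc.eq]; group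
          _ = K.cent.up k * K.cent.up g * (t * (K.cent.up k)⁻¹) * t⁻¹ := by group
          _ = K.cent.up k * K.cent.up g * ((K.cent.up k)⁻¹ * t) * t⁻¹ := by
            rw [(K.mul_t_comm k).symm.inv_right.eq]
          _ = _ := by group
    have hnorm : ∀ c ∈ C, k * c * k⁻¹ ∈ C := by
      intro c hc
      obtain ⟨i, rfl⟩ := hmem c hc
      rw [← conj_pow, hconj]
      exact pow_mem (pow_mem hg j) i
    have hconv : ∀ x' : PSL2, k * g * k⁻¹ = x' →
        h * K.cent.up g * h⁻¹ = K.cent.up x' := by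
      rintro x' rfl
      rw [hj, hup, hconj]
    by_cases hkC : k ∈ C
    · refine Or.inl (hconv g ?_)
      obtain ⟨i, rfl⟩ := hmem k hkC
      rw [((Commute.refl g).pow_left i).eq, mul_inv_cancel_right]
    · have h2 : 2 < Nat.card C := by rw [hcard, ← K.q_eq]; omega
      have hk2 := (hC.normalizer k hnorm h2).resolve_left hkC
      have hkg := (hC.normalizer (k * g) (fun c hc => by
        have : g * c * g⁻¹ = c := by
          obtain ⟨i, rfl⟩ := hmem c hc
          rw [((Commute.refl g).pow_right i).eq, mul_inv_cancel_right]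
        rw [show k * g * c * (k * g)⁻¹ = k * (g * c * g⁻¹) * k⁻¹ by group, this]
        exact hnorm c hc) h2).resolve_left (fun e => hkC (by
          have := C.mul_mem e (C.inv_mem hg)
          rwa [mul_inv_cancel_right] at this))
      refine Or.inr ((hconv g⁻¹ ?_).trans (map_inv _ _))
      rw [inv_eq_of_mul_eq_one_right hk2]
      exact eq_inv_of_mul_eq_one_left (by rw [← hkg]; group)

namespace BFrame

variable {K} {x w : G} (B : K.BFrame x w)
include B

theorem pow_b : x ^ oddTorus K.q = 1 := B.x_ord ▸ pow_orderOf_eq_one x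

theorem t_comm (i : ℕ) : Commute t (x ^ i) := (B.x_t.pow_left i).symm

theorem inv_mem_powers (i : ℕ) : ∃ j : ℕ, (x ^ i)⁻¹ = x ^ j :=
  ⟨i * (oddTorus K.q - 1), inv_eq_of_mul_eq_one_right (by
    rw [← pow_add, show i + i * (oddTorus K.q - 1) = oddTorus K.q * i by
      obtain ⟨c, hc⟩ : ∃ c, oddTorus K.q = c + 1 := ⟨oddTorus K.q - 1, by have := K.five_le_b; omega⟩
      rw [hc, Nat.add_sub_cancel]; ring,
      pow_mul, B.pow_b, one_pow])⟩

theorem eq_one_of_sq {i : ℕ} (h : x ^ i * x ^ i = 1) : x ^ i = 1 := by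
  have h1 : orderOf (x ^ i) ∣ oddTorus K.q := B.x_ord ▸ orderOf_pow_dvd i
  refine orderOf_eq_one_iff.1 (Nat.dvd_one.1 ?_)
  exact (Nat.coprime_two_right.2 K.odd_b).symm ▸
    Nat.dvd_gcd (orderOf_dvd_of_pow_eq_one (show (x ^ i) ^ 2 = 1 by rw [pow_two, h])) h1

/-- The elements of the centralizer of the torus. -/
theorem mem_W {h : G} : Commute h x ↔ ∃ j : ℕ, h = x ^ j ∨ h = t * x ^ j := by
  constructor
  · intro hc
    refine B.cent 1 ?_ h (by rwa [pow_one])
    rw [pow_one]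
    intro e
    have h := B.x_ord
    rw [e, orderOf_one] at h
    have := K.five_le_b
    omega
  · rintro ⟨j, rfl | rfl⟩
    · exact (Commute.refl x).pow_left j
    · exact B.x_t.symm.mul_left ((Commute.refl x).pow_left j)

theorem sq_eq {u : G} {j : ℕ} (hu : u = x ^ j ∨ u = t * x ^ j) : u * u = x ^ j * x ^ j := by
  rcases hu with rfl | rfl
  · rfl
  · rw [mul_assoc, ← mul_assoc (x ^ j) t, ← (B.t_comm j).eq, mul_assoc t, ← mul_assoc t t,
      K.t_mul_self, one_mul]

/-- The normalizer controls conjugacy of the regular elements of the torus. -/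
theorem conj_cases {g y : G} {i : ℕ} (hi : x ^ i ≠ 1) (hy : y = x ^ i ∨ y = t * x ^ i)
    (hc : Commute (g * y * g⁻¹) x) : Commute g t ∧ (g * x * g⁻¹ = x ∨ g * x * g⁻¹ = x⁻¹) := by
  obtain ⟨j, hj⟩ := B.mem_W.1 hc
  have hii : x ^ (i + i) ≠ 1 := fun e => hi (B.eq_one_of_sq (by rwa [← pow_add]))
  have hsq : g * x ^ (i + i) * g⁻¹ = x ^ (j + j) := by
    rw [pow_add, ← B.sq_eq hy, show g * (y * y) * g⁻¹ = g * y * g⁻¹ * (g * y * g⁻¹) by group,
      B.sq_eq hj, pow_add]
  have hjj : x ^ (j + j) ≠ 1 := fun e => hii (by rw [← conj_eq_one_iff (a := g), hsq, e])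
  have htr : ∀ h : G, Commute h (x ^ (i + i)) → Commute (g * h * g⁻¹) (x ^ (j + j)) := fun h hh => by
    rw [← hsq]
    show g * h * g⁻¹ * (g * x ^ (i + i) * g⁻¹) = g * x ^ (i + i) * g⁻¹ * (g * h * g⁻¹)
    rw [show g * h * g⁻¹ * (g * x ^ (i + i) * g⁻¹) = g * (h * x ^ (i + i)) * g⁻¹ by group, hh.eq]
    group
  obtain ⟨m, hm⟩ := B.cent _ hjj _ (htr t (B.t_comm _))
  have hgt : g * t * g⁻¹ = t := by
    have h2 : x ^ m = 1 := B.eq_one_of_sq (by
      rw [← B.sq_eq hm, show g * t * g⁻¹ * (g * t * g⁻¹) = g * (t * t) * g⁻¹ by group,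
        K.t_mul_self, mul_one, mul_inv_cancel])
    rcases hm with e | e
    · rw [h2, conj_eq_one_iff] at e
      exact absurd e K.t_ne_one
    · rwa [h2, mul_one] at e
  have hgtc : Commute g t := mul_inv_eq_iff_eq_mul.1 hgt
  refine ⟨hgtc, B.inv_or_comm g hgtc ?_⟩
  obtain ⟨m, hm⟩ := B.cent _ hjj _ (htr x ((Commute.refl x).pow_right _))
  rcases hm with e | e
  · exact ⟨m, e⟩
  · exfalso
    have h1 : (g * x * g⁻¹) ^ oddTorus K.q = 1 := by
      rw [conj_pow, B.pow_b, mul_one, mul_inv_cancel]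
    rw [e, (B.t_comm m).mul_pow, ← pow_mul, mul_comm m, pow_mul, B.pow_b, one_pow, mul_one] at h1
    obtain ⟨c, hc⟩ := K.odd_b
    rw [hc, pow_succ, pow_mul, pow_two, K.t_mul_self, one_pow, one_mul] at h1
    exact K.t_ne_one h1

theorem w_mul_self : w * w = 1 := Psl.involution_mul_self B.w_two

theorem w_pow (i : ℕ) : w * x ^ i * w⁻¹ = (x ^ i)⁻¹ := by
  rw [← conj_pow, B.w_inv, inv_pow]

theorem w_not_mem : ¬ Commute w x := by
  intro h
  have e := B.w_inv
  rw [h.eq, mul_inv_cancel_right] at e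
  have h1 : x ^ 1 = 1 := B.eq_one_of_sq (by
    rw [pow_one]; exact mul_eq_one_iff_eq_inv.2 e)
  rw [pow_one] at h1
  have h2 := B.x_ord
  rw [h1, orderOf_one] at h2
  have := K.five_le_b
  omega

theorem inverted_of_mul (g : G) : g * x * g⁻¹ = x⁻¹ ↔ Commute (w * g) x := by
  constructor
  · intro h
    refine mul_inv_eq_iff_eq_mul.1 ?_
    rw [mul_inv_rev, show w * g * x * (g⁻¹ * w⁻¹) = w * (g * x * g⁻¹) * w⁻¹ by group, h,
      show w * x⁻¹ * w⁻¹ = (w * x * w⁻¹)⁻¹ by group, B.w_inv, inv_inv]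
  · intro h
    calc g * x * g⁻¹ = w * (w * g * x * (w * g)⁻¹) * w⁻¹ := by
          rw [mul_inv_rev]
          simp only [inv_eq_of_mul_eq_one_right B.w_mul_self]
          simp only [mul_assoc, ← mul_assoc w w, B.w_mul_self, one_mul, mul_one]
      _ = x⁻¹ := by rw [h.eq, mul_inv_cancel_right, B.w_inv]

end BFrame

end CfsgLib.ReeOrder.Conf
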